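import Groth.Agent.SubmDescLib.StalkSys
import Groth.Agent.ConsLib.PairProper
import Groth.Agent.GeomRedFibLib.CplMap
import Groth.Agent.S0086
import Groth.Prelude.Def_EGA4b

/-!
# Properness near a point is detected on the completed local ring
-/

set_option autoImplicit false
set_option linter.style.haveILetI false
set_option backward.isDefEq.respectTransparency false
set_option backward.isDefEq.respectTransparency.types false

universe u

open CategoryTheory CategoryTheory.Limits AlgebraicGeometry

namespace CplProperLib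

theorem isProper_restrict_of_mono {X Y T : Scheme.{u}} (f : X ⟶ Y) (m : T ⟶ Y) [IsOpenImmersion m]
    (V : Y.Opens) (hV : m.opensRange = V) (h : IsProper (pullback.snd f m)) : IsProper (f ∣_ V) := by
  subst hV
  exact (MorphismProperty.arrow_mk_iso_iff @IsProper (morphismRestrictOpensRange f m)).2 h

theorem main {S X Y : Scheme.{u}} [IsLocallyNoetherian S] (f : X ⟶ Y) (g : Y ⟶ S)
    [QuasiCompact g] [QuasiSeparated g] [LocallyOfFiniteType g]
    [QuasiCompact (f ≫ g)] [QuasiSeparated (f ≫ g)] [LocallyOfFiniteType (f ≫ g)] (s : S)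
    (hR : IsProper (pullback.snd f (pullback.fst g
      (Spec.map (CommRingCat.ofHom (algebraMap (S.presheaf.stalk s) (EGA4.Cpl (S.presheaf.stalk s)))) ≫
        S.fromSpecStalk s)))) :
    ∃ W : S.Opens, s ∈ W ∧ IsProper (f ∣_ (g ⁻¹ᵁ W)) := by
  haveI : QuasiCompact f := QuasiCompact.of_comp f g
  haveI : LocallyOfFiniteType f := locallyOfFiniteType_of_comp f g
  haveI : QuasiSeparated f := QuasiSeparated.of_comp f g
  obtain ⟨U, hU, hsU, -⟩ := exists_isAffineOpen_mem_and_subset (X := S) (x := s) (U := ⊤) trivial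
  let R : CommRingCat.{u} := Γ(S, U)
  let p : PrimeSpectrum R := hU.primeIdealOf ⟨s, hsU⟩
  let j : Spec R ⟶ S := hU.fromSpec
  letI : Algebra R (S.presheaf.stalk s) := (S.presheaf.germ U s hsU).hom.toAlgebra
  haveI : IsLocalization.AtPrime (S.presheaf.stalk s) p.asIdeal := hU.isLocalization_stalk ⟨s, hsU⟩
  let ea : Localization.AtPrime p.asIdeal ≃ₐ[R] S.presheaf.stalk s :=
    IsLocalization.algEquiv p.asIdeal.primeCompl _ _
  let ei : CommRingCat.of (Localization.AtPrime p.asIdeal) ⟶ S.presheaf.stalk s :=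
    CommRingCat.ofHom ea.toRingHom
  haveI : IsIso ei := (ConcreteCategory.isIso_iff_bijective _).2 ea.bijective
  let c : S.presheaf.stalk s ⟶ CommRingCat.of (EGA4.Cpl (S.presheaf.stalk s)) :=
    CommRingCat.ofHom (algebraMap (S.presheaf.stalk s) (EGA4.Cpl (S.presheaf.stalk s)))
  let ψ₀ : Spec (CommRingCat.of (EGA4.Cpl (S.presheaf.stalk s))) ⟶ SubmDescLib.locPt R p :=
    Spec.map c ≫ Spec.map ei
  have hst : Spec.map ei ≫ SubmDescLib.locι R p = Spec.map (S.presheaf.germ U s hsU) := by
    rw [SubmDescLib.locι, ← Spec.map_comp]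
    congr 1
    ext x
    exact ea.commutes x
  have hψ : (ψ₀ ≫ SubmDescLib.locι R p) ≫ j = Spec.map c ≫ S.fromSpecStalk s := by
    rw [Category.assoc, Category.assoc, reassoc_of% hst, ← hU.fromSpecStalk_eq_fromSpecStalk hsU]
    rfl
  haveI : IsNoetherianRing (S.presheaf.stalk s) := inferInstance
  haveI : Module.FaithfullyFlat (S.presheaf.stalk s) (EGA4.Cpl (S.presheaf.stalk s)) :=
    GeomRedFibLib.faithfullyFlat_hat _
  haveI : Flat (Spec.map c) := by
    rw [HasRingHomProperty.Spec_iff (P := @Flat)]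
    exact RingHom.flat_algebraMap_iff.2 inferInstance
  haveI : Surjective (Spec.map c) := ⟨PrimeSpectrum.comap_surjective_of_faithfullyFlat⟩
  let A := SubmDescLib.nbhdSys R p
  let ψ : Spec (CommRingCat.of (EGA4.Cpl (S.presheaf.stalk s))) ⟶ A.c.pt := ψ₀
  replace hψ : (ψ ≫ A.s) ≫ j = Spec.map c ≫ S.fromSpecStalk s := hψ
  let gR := pullback.snd g j
  let pY := pullback.fst g j
  let B := RichLib.LimBC.pb A gR
  let fR := pullback.snd f pY
  haveI : CompactSpace ↥(pullback g j) := QuasiCompact.compactSpace_of_compactSpace gR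
  haveI : QuasiSeparatedSpace ↥(pullback g j) := quasiSeparatedSpace_of_quasiSeparated gR
  let t := pullback.fst gR A.s
  have hlim : RichLib.LimBC.AtLim B fR @IsProper := by
    show IsProper (pullback.snd fR t)
    let φ := pullback.fst (pullback.snd gR A.s) ψ
    have h1 : IsPullback (φ ≫ t ≫ pY) (pullback.snd (pullback.snd gR A.s) ψ) g
        (Spec.map c ≫ S.fromSpecStalk s) := by
      have := (IsPullback.of_hasPullback (pullback.snd gR A.s) ψ).paste_horiz
        ((IsPullback.of_hasPullback gR A.s).paste_horiz (IsPullback.of_hasPullback g j))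
      rw [← hψ, Category.assoc]
      exact this
    let k := h1.isoPullback
    have h2 : IsProper (pullback.snd f (φ ≫ t ≫ pY)) := by
      rw [show φ ≫ t ≫ pY = k.hom ≫ pullback.fst g (Spec.map c ≫ S.fromSpecStalk s) from
        (h1.isoPullback_hom_fst).symm]
      have hk := (IsPullback.of_hasPullback f (k.hom ≫ pullback.fst g (Spec.map c ≫ S.fromSpecStalk s)))
      refine MorphismProperty.of_isPullback (P := @IsProper) (IsPullback.of_right (h₁₁ := pullback.lift
        (pullback.fst f (k.hom ≫ pullback.fst g _)) (pullback.snd f _ ≫ k.hom)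
        (by rw [Category.assoc]; exact hk.w)) ?_ (pullback.lift_snd _ _ _)
        (IsPullback.of_hasPullback f (pullback.fst g (Spec.map c ≫ S.fromSpecStalk s)))) hR
      rw [pullback.lift_fst]
      exact hk
    have h3 : IsPullback (pullback.lift (pullback.fst f (φ ≫ t ≫ pY)) (pullback.snd f (φ ≫ t ≫ pY) ≫ φ ≫ t)
        (by simpa using (IsPullback.of_hasPullback f (φ ≫ t ≫ pY)).w))
        (pullback.snd f (φ ≫ t ≫ pY)) fR (φ ≫ t) := by
      refine IsPullback.of_right ?_ (pullback.lift_snd _ _ _) (IsPullback.of_hasPullback f pY)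
      rw [pullback.lift_fst, Category.assoc]
      exact IsPullback.of_hasPullback f _
    have h4 : IsPullback (pullback.lift (pullback.lift (pullback.fst f (φ ≫ t ≫ pY)) (pullback.snd f (φ ≫ t ≫ pY) ≫ φ ≫ t)
        (by simpa using (IsPullback.of_hasPullback f (φ ≫ t ≫ pY)).w)) (pullback.snd f (φ ≫ t ≫ pY) ≫ φ)
        (h3.w.trans (Category.assoc _ _ _).symm))
        (pullback.snd f (φ ≫ t ≫ pY)) (pullback.snd fR t) φ := by
      refine IsPullback.of_right ?_ (pullback.lift_snd _ _ _) (IsPullback.of_hasPullback fR t)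
      rw [pullback.lift_fst]
      exact h3
    haveI : IsAffineHom ψ := inferInstanceAs (IsAffineHom ψ₀)
    haveI : Surjective ψ := inferInstanceAs (Surjective ψ₀)
    haveI : Flat ψ := inferInstanceAs (Flat ψ₀)
    exact Groth.Agent.S0086.result.of_isPullback h4.flip
      ⟨⟨inferInstanceAs (Surjective (pullback.fst (pullback.snd gR A.s) ψ)),
        inferInstanceAs (Flat (pullback.fst (pullback.snd gR A.s) ψ))⟩,
        inferInstanceAs (QuasiCompact (pullback.fst (pullback.snd gR A.s) ψ))⟩ h2
  obtain ⟨i, hi⟩ := ConsLib.exists_at_isProper B fR hlim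
  let w : (A.D.obj i) ⟶ S := A.t i ≫ j
  haveI : IsOpenImmersion (A.t i) := inferInstanceAs (IsOpenImmersion (SubmDescLib.Nbhd.opens R p i).ι)
  haveI : IsOpenImmersion j := hU.isOpenImmersion_fromSpec
  haveI : IsOpenImmersion w := inferInstance
  refine ⟨w.opensRange, ⟨⟨p, ?_⟩, hU.fromSpec_primeIdealOf ⟨s, hsU⟩⟩, ?_⟩
  · show p ∈ (SubmDescLib.Nbhd.opens R p i)
    rw [SubmDescLib.Nbhd.opens_eq]
    exact i.2
  let m := pullback.fst gR (A.t i) ≫ pY
  have hm : IsPullback m (pullback.snd gR (A.t i)) g w :=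
    (IsPullback.of_hasPullback gR (A.t i)).paste_horiz (IsPullback.of_hasPullback g j)
  haveI : IsOpenImmersion m := MorphismProperty.of_isPullback (P := @IsOpenImmersion) hm.flip inferInstance
  refine isProper_restrict_of_mono f m _ ?_ ?_
  · apply TopologicalSpace.Opens.ext
    show Set.range m = g ⁻¹' Set.range w
    rw [← hm.isoPullback_hom_fst, Scheme.Hom.comp_base]
    erw [hm.isoPullback.hom.surjective.range_comp (pullback.fst g w), Scheme.Pullback.range_fst]
  · have hp : IsPullback (pullback.fst fR (pullback.fst gR (A.t i)) ≫ pullback.fst f pY)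
        (pullback.snd fR (pullback.fst gR (A.t i))) f m :=
      (IsPullback.of_hasPullback fR (pullback.fst gR (A.t i))).paste_horiz (IsPullback.of_hasPullback f pY)
    have hi' : IsProper (pullback.snd fR (pullback.fst gR (A.t i))) := hi
    rw [← hp.isoPullback_inv_snd]
    infer_instance

end CplProperLib
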